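import Groth.Agent.S4357
import Groth.Agent.QCohBase.Criteria
import Groth.Agent.QCohBase.FiniteTypePullback
import Mathlib.AlgebraicGeometry.AffineTransitionLimit

/-!
# Vanishing of finite type modules along limits of schemes
-/

set_option autoImplicit false
set_option linter.style.haveILetI false
universe u

open CategoryTheory Limits AlgebraicGeometry TopologicalSpace

namespace Groth.Agent.LimModEpi

open Groth.Agent.QCohBase

theorem isFT_of_epi {X : Scheme.{u}} {M N : X.Modules} (p : M ⟶ N) [Epi p] (hM : CohB1.IsFT M) :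
    CohB1.IsFT N := by
  refine isFT_of_generators fun x => ?_
  obtain ⟨U, hU, G, hG⟩ := exists_generators_of_isFT hM x
  haveI : (Scheme.Modules.restrictFunctor U.ι).IsLeftAdjoint := inferInstance
  exact ⟨U, hU, @SheafOfModules.GeneratingSections.ofEpi _ _ _ _ _ _ _ _ G
    ((Scheme.Modules.restrictFunctor U.ι).map p) (Functor.map_epi (Scheme.Modules.restrictFunctor U.ι) p), hG⟩

theorem isZero_iff_support {X : Scheme.{u}} (M : X.Modules) : IsZero M ↔ CohB1.support M = ∅ :=
  ⟨fun h => Set.eq_empty_of_forall_notMem fun x hx => hx (subsingleton_stalk_of_isZero h x),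
    fun h => isZero_of_stalks fun x => not_not.1 fun hx => (h.le hx).elim⟩

theorem epi_pullback_map_iff {X Y : Scheme.{u}} (g : X ⟶ Y) {F G : Y.Modules} [Coh.IsQCoh F] [Coh.IsQCoh G]
    (hG : CohB1.IsFT G) (f : F ⟶ G) :
    Epi ((Scheme.Modules.pullback g).map f) ↔ g ⁻¹' CohB1.support (cokernel f) = ∅ := by
  haveI : Coh.IsQCoh (cokernel f) := isQuasicoherent_cokernel f inferInstance inferInstance
  haveI : (Scheme.Modules.pullback g).IsLeftAdjoint := (Scheme.Modules.pullbackPushforwardAdjunction g).isLeftAdjoint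
  have hQ : CohB1.IsFT (cokernel f) := isFT_of_epi (cokernel.π f) hG
  rw [← S4357.result g (cokernel f) hQ, ← isZero_iff_support]
  let e := PreservesCokernel.iso (Scheme.Modules.pullback g) f
  exact ⟨fun h => (isZero_cokernel_of_epi ((Scheme.Modules.pullback g).map f)).of_iso e,
    fun h => Preadditive.epi_of_isZero_cokernel _ (h.of_iso e.symm)⟩

theorem preimage_eq_empty_iff {I : Type u} [SmallCategory I] [IsCofiltered I] {D : I ⥤ Scheme.{u}} (c : Cone D)
    (hc : IsLimit c) [∀ (i j : I) (a : i ⟶ j), IsAffineHom (D.map a)] (i₀ : I) [CompactSpace (D.obj i₀)]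
    {Z : Set (D.obj i₀)} (hZ : IsClosed Z) :
    c.π.app i₀ ⁻¹' Z = ∅ ↔ ∃ (j : I) (φ : j ⟶ i₀), D.map φ ⁻¹' Z = ∅ := by
  haveI : ∀ {i j : I} (a : i ⟶ j), IsAffineHom (D.map a) := fun a => inferInstance
  refine ⟨fun h => ?_, fun ⟨j, φ, hφ⟩ => ?_⟩
  · by_contra! H
    obtain ⟨s, hs⟩ := exists_mem_of_isClosed_of_nonempty' D c hc (fun j φ => D.map φ ⁻¹' Z)
      (fun j φ => hZ.preimage (D.map φ).continuous) (fun j φ => H j φ)
      (fun j φ => by
        haveI : CompactSpace (D.obj j) := QuasiCompact.compactSpace_of_compactSpace (D.map φ)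
        exact (hZ.preimage (D.map φ).continuous).isCompact)
      (fun j k a φ x hx => by simpa [Functor.map_comp] using hx)
    have : s ∈ c.π.app i₀ ⁻¹' Z := by simpa using hs i₀ (𝟙 i₀)
    rw [h] at this
    exact this
  · refine Set.eq_empty_of_forall_notMem fun s hs => ?_
    refine hφ.le (show c.π.app j s ∈ D.map φ ⁻¹' Z from ?_)
    show D.map φ (c.π.app j s) ∈ Z
    rwa [← Scheme.Hom.comp_apply, c.w]

end Groth.Agent.LimModEpi
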